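import Groth.Agent.WeilExistLib.Main
import Groth.Agent.GrpAmpleLib.Main
import Groth.Agent.AmpleExtLib.Main
import Groth.Agent.AmpleThLib.FiniteSet
import Groth.Agent.ChevLib.Main
import Groth.Agent.S1841

/-!
# Weil restriction along finite flat morphisms to an affine base
-/

set_option autoImplicit false
set_option linter.all false
set_option backward.isDefEq.respectTransparency false
set_option maxHeartbeats 800000

noncomputable section

universe u

open CategoryTheory CategoryTheory.Limits MonoidalCategory CartesianMonoidalCategory AlgebraicGeometry Opposite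
open Groth.Agent.FinHom Groth.Agent
open TopologicalSpace (Opens)

namespace WeilExistLib

variable {S : Scheme.{u}} (X Y : Over S) (π : Y ⟶ X)

theorem exists_sect_rep_affine [IsFinite X.hom] [Flat X.hom] [LocallyOfFinitePresentation X.hom] [IsAffine S]
    [IsAffine Y.left] :
    ∃ (A : Over S) (ξ : X ⊗ A ⟶ Y), ξ ≫ π = fst X A ∧
      ∀ (T : Over S) (φ : X ⊗ T ⟶ Y), φ ≫ π = fst X T → ∃! v : T ⟶ A, (X ◁ v) ≫ ξ = φ := by
  haveI : IsAffineHom Y.hom := isAffineHom_of_isAffine Y.hom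
  obtain ⟨M, ev, -, -, -, hM⟩ := exists_homScheme X Y
  obtain ⟨N, ev', hN, -, -, hNu⟩ := exists_homScheme X X
  haveI := hN
  obtain ⟨a, ha, -⟩ := hNu M (ev ≫ π)
  obtain ⟨b, hb, -⟩ := hNu M (fst X M)
  obtain ⟨A, i, hi, -, hab, huni⟩ := exists_equalizer a b
  have hiff : ∀ {T : Over S} (v : T ⟶ M), ((X ◁ v) ≫ ev) ≫ π = fst X T ↔ v ≫ a = v ≫ b := by
    intro T v
    refine ⟨fun h => (hNu T (fst X T)).unique ?_ ?_, fun h => ?_⟩
    · show (X ◁ (v ≫ a)) ≫ ev' = _
      rw [whiskerLeft_comp, Category.assoc, ha, ← Category.assoc, h]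
    · show (X ◁ (v ≫ b)) ≫ ev' = _
      rw [whiskerLeft_comp, Category.assoc, hb, whiskerLeft_fst]
    · rw [Category.assoc, ← ha, ← Category.assoc, ← whiskerLeft_comp, h, whiskerLeft_comp, Category.assoc, hb,
        whiskerLeft_fst]
  refine ⟨A, (X ◁ i) ≫ ev, (hiff i).2 hab, fun T φ hφ => ?_⟩
  obtain ⟨v, hv, hvu⟩ := hM T φ
  subst hv
  obtain ⟨w, hw, hwu⟩ := huni T v ((hiff v).1 hφ)
  refine ⟨w, ?_, fun w' hw' => hwu w' (hvu _ ?_)⟩
  · show (X ◁ w) ≫ (X ◁ i) ≫ ev = _
    rw [← Category.assoc, ← whiskerLeft_comp, hw]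
  · show (X ◁ (w' ≫ i)) ≫ ev = _
    rw [whiskerLeft_comp, Category.assoc]
    exact hw'


theorem exists_rep_sectFun_of_finite [IsAffine S] [IsFinite X.hom] [Flat X.hom] [LocallyOfFinitePresentation X.hom]
    (hFA : ∀ F : Set Y.left, F.Finite → ∃ V : Y.left.Opens, IsAffineOpen V ∧ F ⊆ V) :
    ∃ A : Over S, Nonempty ((sectFun X Y π).RepresentableBy A) := by
  haveI : ∀ T : Over S, IsFinite (pullback.snd X.hom T.hom) := fun T =>
    MorphismProperty.pullback_snd (P := @IsFinite) _ _ inferInstance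
  let ι : Type u := {V : Y.left.Opens // IsAffineOpen V}
  let YV : ι → Over S := fun p => Over.mk (p.1.ι ≫ Y.hom)
  let k : ∀ p, YV p ⟶ Y := fun p => Over.homMk p.1.ι rfl
  haveI : ∀ p, IsOpenImmersion (k p).left := fun p => inferInstanceAs (IsOpenImmersion p.1.ι)
  haveI : ∀ p, Mono (k p) := fun p => Over.mono_of_mono_left _
  have hrep : ∀ p : ι, ∃ (A : Over S) (ξ : X ⊗ A ⟶ YV p), ξ ≫ k p ≫ π = fst X A ∧
      ∀ (T : Over S) (φ : X ⊗ T ⟶ YV p), φ ≫ k p ≫ π = fst X T → ∃! v : T ⟶ A, (X ◁ v) ≫ ξ = φ := fun p => by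
    haveI : IsAffine (YV p).left := p.2
    exact exists_sect_rep_affine X (YV p) (k p ≫ π)
  choose A ξ hξ hA using hrep
  let Ξ : ∀ p, (sectFun X Y π).obj (op (A p)) := fun p =>
    ⟨ξ p ≫ k p, by rw [Category.assoc]; exact hξ p⟩
  let bad : ι → ∀ T : Over S, (sectFun X Y π).obj (op T) → Set T.left := fun p T z =>
    pullback.snd X.hom T.hom '' {x | z.1.left x ∉ p.1}
  let O : ι → ∀ T : Over S, (sectFun X Y π).obj (op T) → T.left.Opens := fun p T z =>
    ⟨(bad p T z)ᶜ, ((pullback.snd X.hom T.hom).isClosedMap _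
      ((p.1.isOpen.preimage z.1.left.continuous).isClosed_compl)).isOpen_compl⟩
  have hmem : ∀ p (T : Over S) (z : (sectFun X Y π).obj (op T)) (t : T.left),
      t ∈ O p T z ↔ ∀ x, pullback.snd X.hom T.hom x = t → z.1.left x ∈ p.1 := fun p T z t => by
    show t ∉ bad p T z ↔ _
    simp only [bad, Set.mem_image, Set.mem_ofPred_eq, not_exists, not_and]
    exact forall_congr' fun x => ⟨fun h hx => not_not.1 fun h' => h h' hx, fun h h' hx => h' (h hx)⟩
  refine RepCoverLib.exists_rep (Φ := sectFun X Y π) (isZarSheaf_sectFun X Y π) A Ξ ?_ O ?_ ?_ ?_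
  · intro p T b b' h
    have h1 : (X ◁ b) ≫ ξ p ≫ k p = (X ◁ b') ≫ ξ p ≫ k p := congrArg Subtype.val h
    rw [← Category.assoc, ← Category.assoc, cancel_mono] at h1
    exact (hA p T _ (by rw [Category.assoc, hξ, whiskerLeft_fst])).unique rfl h1.symm
  · intro p T z
    let T₀ : Over S := Over.mk ((O p T z).ι ≫ T.hom)
    let g : T₀ ⟶ T := RepCoverLib.oo (O p T z)
    have hr : Set.range ((X ◁ g) ≫ z.1).left ⊆ Set.range (k p).left := by
      rintro _ ⟨x, rfl⟩
      rw [show Set.range (k p).left = Set.range p.1.ι from rfl, Scheme.Opens.range_ι]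
      show ((X ◁ g).left ≫ z.1.left) x ∈ _
      rw [Scheme.Hom.comp_apply]
      refine (hmem p T z _).1 (pullback.snd X.hom T₀.hom x).2 _ ?_
      exact (Scheme.Hom.comp_apply _ _ _).symm.trans
        ((congrArg (fun m => m x) (isPullback_whiskerLeft X g).w).trans (Scheme.Hom.comp_apply _ _ _))
    let ψ : X ⊗ T₀ ⟶ YV p := Over.homMk (IsOpenImmersion.lift (k p).left ((X ◁ g) ≫ z.1).left hr) (by
      rw [← Over.w (k p), IsOpenImmersion.lift_fac_assoc]
      exact Over.w _)
    have hψ : ψ ≫ k p = (X ◁ g) ≫ z.1 := Over.OverMorphism.ext (IsOpenImmersion.lift_fac _ _ _)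
    obtain ⟨v, hv, -⟩ := hA p T₀ ψ (by rw [← Category.assoc, hψ, Category.assoc, z.2, whiskerLeft_fst])
    refine ⟨v, Subtype.ext ?_⟩
    show (X ◁ v) ≫ ξ p ≫ k p = (X ◁ g) ≫ z.1
    rw [← Category.assoc, hv, hψ]
  · rintro p T z T' g b h _ ⟨t', rfl⟩
    refine (hmem p T z _).2 fun x hx => ?_
    obtain ⟨x', hx', -⟩ := Scheme.exists_preimage_of_isPullback (isPullback_whiskerLeft X g) x t' hx
    rw [← hx', ← Scheme.Hom.comp_apply, ← Over.comp_left,
      ← show (X ◁ b) ≫ ξ p ≫ k p = (X ◁ g) ≫ z.1 from congrArg Subtype.val h, ← Category.assoc, Over.comp_left,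
      Scheme.Hom.comp_apply]
    exact (((X ◁ b) ≫ ξ p).left x').2
  · intro T z t
    obtain ⟨V, hV, hFV⟩ := hFA (z.1.left '' (pullback.snd X.hom T.hom ⁻¹' {t}))
      ((IsFinite.finite_preimage_singleton (pullback.snd X.hom T.hom) t).image _)
    exact ⟨⟨V, hV⟩, (hmem _ T z t).2 fun x hx => hFV ⟨x, hx, rfl⟩⟩


end WeilExistLib

namespace WeilFinLib

/-- Finitely many points of a group scheme of finite type over an artinian ring lie in an affine open. -/
theorem exists_affine_finite {A : Type u} [CommRing A] [IsArtinianRing A] (G : Over (Spec (CommRingCat.of A))) [GrpObj G]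
    [LocallyOfFiniteType G.hom] [QuasiCompact G.hom] (F : Set G.left) (hF : F.Finite) :
    ∃ V : G.left.Opens, IsAffineOpen V ∧ F ⊆ V := by
  classical
  let B := Spec (CommRingCat.of A)
  haveI : DiscreteTopology ↥B := inferInstanceAs (DiscreteTopology (PrimeSpectrum A))
  haveI : Finite ↥B := inferInstanceAs (Finite (PrimeSpectrum A))
  have hb : ∀ b : ↥B, ∃ V : G.left.Opens, IsAffineOpen V ∧ (∀ x ∈ V, G.hom x = b) ∧ ∀ x ∈ F, G.hom x = b → x ∈ V := by
    intro b
    let p : Ideal A := b.asIdeal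
    haveI : p.IsPrime := b.isPrime
    haveI : p.IsMaximal := IsArtinianRing.isMaximal_of_isPrime p
    letI : Field (A ⧸ p) := Ideal.Quotient.field p
    let g : Spec (CommRingCat.of (A ⧸ p)) ⟶ B := Spec.map (CommRingCat.ofHom (Ideal.Quotient.mk p))
    haveI : IsClosedImmersion g := IsClosedImmersion.spec_of_surjective _ Ideal.Quotient.mk_surjective
    have hg : ∀ z, g z = b := fun z => by
      refine PrimeSpectrum.ext ?_
      show Ideal.comap (Ideal.Quotient.mk p) z.asIdeal = p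
      haveI := z.isPrime
      rw [(Ideal.eq_bot_or_top z.asIdeal).resolve_right (Ideal.IsPrime.ne_top ‹_›)]
      exact Ideal.mk_ker
    let Gb : Over (Spec (CommRingCat.of (A ⧸ p))) := Over.mk (pullback.snd G.hom g)
    haveI : GrpObj (Over.mk G.hom) := ‹GrpObj G›
    letI : GrpObj Gb := Over.grpObjMkPullbackSnd
    haveI : LocallyOfFiniteType Gb.hom := inferInstanceAs (LocallyOfFiniteType (pullback.snd G.hom g))
    haveI : QuasiCompact Gb.hom := inferInstanceAs (QuasiCompact (pullback.snd G.hom g))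
    obtain ⟨L, hL⟩ := Groth.Agent.S1841.result (A ⧸ p) Gb
    let i : Gb.left ⟶ G.left := pullback.fst G.hom g
    haveI : IsClosedImmersion i := MorphismProperty.pullback_fst (P := @IsClosedImmersion) _ _ inferInstance
    have hrange : Set.range i = G.hom ⁻¹' {b} := by
      refine Set.Subset.antisymm ?_ fun x hx => ?_
      · rintro _ ⟨z, rfl⟩
        show G.hom (pullback.fst G.hom g z) = b
        rw [← Scheme.Hom.comp_apply, pullback.condition, Scheme.Hom.comp_apply, hg]
      · obtain ⟨z, hz, -⟩ := Scheme.Pullback.exists_preimage_pullback (f := G.hom) (g := g) x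
          (IsLocalRing.closedPoint (A ⧸ p)) (by rw [hg]; exact hx)
        exact ⟨z, hz⟩
    obtain ⟨W, hW, hFW⟩ := AmpleThLib.exists_affineOpen_finset hL
      (hF.preimage i.isClosedEmbedding.injective.injOn).toFinset
    have ho : IsOpen (i '' (W : Set Gb.left)) := by
      obtain ⟨O, hO, hOW⟩ := i.isClosedEmbedding.isInducing.isOpen_iff.1 W.2
      rw [show (W : Set Gb.left) = i ⁻¹' O from hOW.symm]
      erw [Set.image_preimage_eq_inter_range]
      rw [hrange]
      exact hO.inter ((isOpen_discrete _).preimage G.hom.continuous)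
    let V : G.left.Opens := ⟨i '' (W : Set Gb.left), ho⟩
    have hiV : i ⁻¹ᵁ V = W := TopologicalSpace.Opens.ext (Set.preimage_image_eq _ i.isClosedEmbedding.injective)
    refine ⟨V, ?_, ?_, ?_⟩
    · have hW' : IsAffineOpen (i ⁻¹ᵁ V) := by rw [hiV]; exact hW
      haveI : IsAffine (i ⁻¹ᵁ V).toScheme := hW'
      haveI : IsClosedImmersion (i ∣_ V) := IsZariskiLocalAtTarget.restrict (P := @IsClosedImmersion) ‹_› V
      haveI : Surjective (i ∣_ V) := ⟨by
        rintro ⟨y, hy⟩
        obtain ⟨z, hz, hzy⟩ := hy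
        refine ⟨⟨z, show i z ∈ V from ⟨z, hz, rfl⟩⟩, Subtype.ext ?_⟩
        rw [morphismRestrict_base_coe]
        exact hzy⟩
      exact ChevLib.isAffine_of_surjective_universallyClosed (i ∣_ V)
    · rintro _ ⟨z, -, rfl⟩
      exact hrange.subset ⟨z, rfl⟩
    · intro x hx hxb
      obtain ⟨z, rfl⟩ := hrange.symm.subset hxb
      exact ⟨z, hFW z ((Set.Finite.mem_toFinset _).2 hx), rfl⟩
  choose V hV hVb hFV using hb
  refine ⟨⨆ b, V b, IsAffineOpen.iSup_of_disjoint hV fun b b' hne => ?_,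
    fun x hx => TopologicalSpace.Opens.mem_iSup.2 ⟨G.hom x, hFV _ x hx rfl⟩⟩
  show Disjoint (V b) (V b')
  rw [disjoint_iff_inf_le]
  rintro x ⟨hx, hx'⟩
  exact hne ((hVb b x hx).symm.trans (hVb b' x hx'))

end WeilFinLib
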